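import Cfsg.Agent.CosetEnum.Engine

set_option autoImplicit false

/-!
A checker for very large enumerations over involutions.  An entry of the table holds the image
together with a rank of the edge and the rotated relator that justifies it.
-/

namespace CfsgLib.CosetEnum.Wide

noncomputable section

/-- The image stored in an entry. -/
def img (e : Nat) : Nat := Nat.land e 1048575

/-- The mark stored in an entry: rank, relator and direction. -/
def mrk (e : Nat) : Nat := Nat.shiftRight e 20

section Checker

variable (n k : Nat) (E : Nat → Nat → Nat) (par : Nat → Nat) (wd : Nat → List Nat) (nR nW : Nat)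

/-- A path ending at `e` all of whose edges have rank below `L`. -/
def below (L e : Nat) (w : List Nat) (a : Nat) : Bool :=
  List.rec (fun a => Nat.beq a e)
    (fun y _ ih a => force (E y a) fun v =>
      Nat.blt (Nat.shiftRight (mrk v) 10) L && force (img v) ih) w a

/-- A closed path that starts with the edge to be justified. -/
def scanHead (L i x j : Nat) (w : List Nat) : Bool :=
  List.rec false (fun y w _ => Nat.beq y x && below E L i w j) w

/-- The justification of an edge with mark `v` from `i` to `j`. -/
def okMark (i x j v : Nat) : Bool :=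
  bif Nat.beq (Nat.land v 1) 1 then
    force (E x j) fun e => Nat.beq (img e) i && Nat.beq (Nat.succ (mrk e)) v
  else bif Nat.beq v 0 then Nat.blt i j && Nat.beq (par j) (Nat.lor (Nat.shiftLeft i 4) x)
  else force (Nat.land (Nat.shiftRight v 1) 511) fun r =>
    (Nat.blt r nR || (Nat.beq i 0 && Nat.blt r nW)) &&
      scanHead E (Nat.shiftRight v 10) i x j (wd r)

/-- All edges at a coset. -/
def edgeEntry (i : Nat) : Bool :=
  bif Nat.blt i n then
    Nat.rec true (fun x ih => ih &&
      force (E x i) fun e => force (img e) fun j => force (mrk e) fun v =>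
        Nat.blt j n && okMark E par wd nR nW i x j v) k
  else true

/-- The tree condition for every non-zero coset. -/
def treeOK (i : Nat) : Bool :=
  bif Nat.blt i n && Nat.blt 0 i then
    force (par i) fun v => force (Nat.shiftRight v 4) fun p => force (Nat.land v 15) fun x =>
      Nat.blt p i && (Nat.blt x k && Nat.beq (img (E x p)) i)
  else true

end Checker

/-- `f` holds on an interval. -/
def On (f : Nat → Bool) (lo hi : Nat) : Prop := ∀ i, lo ≤ i → i < hi → f i = true

theorem On.of_allR {f : Nat → Bool} {d lo : Nat} (h : allR f d lo = true) : On f lo (lo + 2 ^ d) :=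
  fun i h1 h2 => allR_spec d lo h i h1 h2

theorem On.append {f : Nat → Bool} {a b c : Nat} (h1 : On f a b) (h2 : On f b c) : On f a c :=
  fun i ha hc => (lt_or_ge i b).elim (h1 i ha) fun hb => h2 i hb hc

variable {G : Type*} [Group G] (g : Nat → G) (par : Nat → Nat)

/-- Coset representatives along the spanning tree. -/
def crOf (i : Nat) : G :=
  if _h : par i >>> 4 < i then crOf (par i >>> 4) * g (par i &&& 15) else 1
termination_by i

theorem crOf_zero : crOf g par 0 = 1 := by
  rw [crOf, dif_neg (Nat.not_lt_zero _)]

theorem crOf_step (i : Nat) (h : par i >>> 4 < i) :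
    crOf g par i = crOf g par (par i >>> 4) * g (par i &&& 15) := by
  rw [crOf, dif_pos h]

variable (H : Subgroup G) (E : Nat → Nat → Nat) (c : Nat → G)

/-- The established meaning of an edge. -/
def Holds (i x : Nat) : Prop := c i * g x * (c (img (E x i)))⁻¹ ∈ H

variable {g H E c par} {n k : Nat}

theorem edge_spec {wd : Nat → List Nat} {nR nW : Nat}
    (hv : On (edgeEntry n k E par wd nR nW) 0 n) (i x : Nat) (hi : i < n) (hx : x < k) :
    img (E x i) < n ∧ okMark E par wd nR nW i x (img (E x i)) (mrk (E x i)) = true := by
  have h := hv i (Nat.zero_le _) hi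
  unfold edgeEntry at h
  rw [show Nat.blt i n = true by simpa using hi] at h
  simp only [cond_true] at h
  clear hv
  induction k with
  | zero => omega
  | succ m ih =>
    have h' : (Nat.rec (motive := fun _ => Bool) true (fun x ih => ih &&
      force (E x i) fun e => force (img e) fun j => force (mrk e) fun v =>
        Nat.blt j n && okMark E par wd nR nW i x j v) m &&
      force (E m i) fun e => force (img e) fun j => force (mrk e) fun v =>
        Nat.blt j n && okMark E par wd nR nW i m j v) = true := h
    rw [Bool.and_eq_true] at h'
    rcases Nat.lt_succ_iff_lt_or_eq.mp hx with hlt | rfl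
    · exact ih hlt h'.1
    · simpa [force_eq, Bool.and_eq_true] using h'.2

theorem below_sound {L e : Nat}
    (hT : ∀ a y, a < n → y < k → img (E y a) < n)
    (hB : ∀ a y, a < n → y < k → mrk (E y a) >>> 10 < L → Holds g H E c a y) :
    ∀ (w : List Nat) (a : Nat), (∀ y ∈ w, y < k) → a < n → below E L e w a = true →
      c a * prodw g w * (c e)⁻¹ ∈ H := by
  intro w
  induction w with
  | nil =>
    intro a _ _ h
    obtain rfl : a = e := Nat.eq_of_beq_eq_true h
    simpa [prodw] using H.one_mem
  | cons y w ih =>
    intro a hw ha h
    have h' : force (E y a) (fun v => Nat.blt (Nat.shiftRight (mrk v) 10) L &&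
      force (img v) (fun b => below E L e w b)) = true := h
    simp only [force_eq, Bool.and_eq_true, Nat.blt_eq] at h'
    have hy := hw y List.mem_cons_self
    have := H.mul_mem (hB a y ha hy h'.1)
      (ih _ (fun z hz => hw z (List.mem_cons_of_mem y hz)) (hT a y ha hy) h'.2)
    simpa [prodw_cons, mul_assoc] using this

/-- A full certificate establishes every edge. -/
theorem edges_hold {wd : Nat → List Nat} {nR nW : Nat} (hk : k ≤ 16)
    (hv : On (edgeEntry n k E par wd nR nW) 0 n)
    (hinv : ∀ x, x < k → g x * g x = 1)
    (hwd : ∀ r, r < nW → ∀ y ∈ wd r, y < k) (hRW : nR ≤ nW)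
    (hrel : ∀ r, r < nR → prodw g (wd r) = 1) (hsub : ∀ r, r < nW → prodw g (wd r) ∈ H) :
    ∀ i x, i < n → x < k → Holds g H E (crOf g par) i x := by
  set c := crOf g par with hc
  have hT : ∀ a y, a < n → y < k → img (E y a) < n := fun a y ha hy => (edge_spec hv a y ha hy).1
  have main : ∀ L i x, i < n → x < k → mrk (E x i) >>> 10 = L → Holds g H E c i x := by
    intro L
    induction L using Nat.strong_induction_on with
    | _ L ih =>
      have hB : ∀ a y, a < n → y < k → mrk (E y a) >>> 10 < L → Holds g H E c a y :=
        fun a y ha hy h => ih _ h a y ha hy rfl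
      have fwd : ∀ i x, i < n → x < k → mrk (E x i) % 2 = 0 → mrk (E x i) >>> 10 = L →
          Holds g H E c i x := by
        intro i x hi hx he hL
        have h := (edge_spec hv i x hi hx).2
        unfold okMark at h
        rw [show Nat.land (mrk (E x i)) 1 = 0 from (Nat.and_one_is_mod _).trans he,
          show Nat.beq 0 1 = false from rfl] at h
        simp only [cond_false, force_eq] at h
        cases hz : Nat.beq (mrk (E x i)) 0
        · rw [hz] at h
          simp only [cond_false] at h
          rw [show Nat.shiftRight (mrk (E x i)) 10 = L from hL] at h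
          generalize Nat.land (Nat.shiftRight (mrk (E x i)) 1) 511 = r at h
          simp only [Bool.and_eq_true, Bool.or_eq_true, Nat.blt_eq] at h
          obtain ⟨hr, hs⟩ := h
          have hrw : r < nW := by
            rcases hr with hr | ⟨-, hr⟩
            · omega
            · exact hr
          have hmem : c i * prodw g (wd r) * (c i)⁻¹ ∈ H := by
            rcases hr with hr | ⟨h0, hr⟩
            · simp [hrel r hr, H.one_mem]
            · rw [show i = 0 from Nat.eq_of_beq_eq_true h0]
              simpa [hc, crOf_zero] using hsub r hr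
          have hlt := hwd r hrw
          generalize wd r = w at hs hmem hlt
          cases w with
          | nil => exact absurd hs Bool.false_ne_true
          | cons y w =>
            have hs' : (Nat.beq y x && below E L i w (img (E x i))) = true := hs
            rw [Bool.and_eq_true] at hs'
            obtain rfl := Nat.eq_of_beq_eq_true hs'.1
            have hb := below_sound hT hB w _ (fun z hz => hlt z (List.mem_cons_of_mem y hz))
              (hT i y hi hx) hs'.2
            show c i * g y * (c (img (E y i)))⁻¹ ∈ H
            simpa [prodw_cons, mul_assoc] using H.mul_mem hmem (H.inv_mem hb)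
        · rw [hz] at h
          simp only [cond_true, Bool.and_eq_true, Nat.blt_eq] at h
          have hp := Nat.eq_of_beq_eq_true h.2
          have hx16 : x < 16 := by omega
          have h4 : par (img (E x i)) >>> 4 = i := by
            rw [hp]
            show ((i <<< 4) ||| x) >>> 4 = _
            rw [Nat.shiftRight_or_distrib, Nat.shiftLeft_shiftRight,
              show x >>> 4 = 0 by rw [Nat.shiftRight_eq_div_pow]; omega, Nat.or_zero]
          have h15 : par (img (E x i)) &&& 15 = x := by
            rw [hp]
            show ((i <<< 4) ||| x) &&& 15 = _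
            rw [Nat.and_or_distrib_right, show (15 : Nat) = 2 ^ 4 - 1 from rfl,
              Nat.and_two_pow_sub_one_eq_mod, Nat.and_two_pow_sub_one_eq_mod, Nat.shiftLeft_eq,
              Nat.mul_mod_left, Nat.zero_or, Nat.mod_eq_of_lt hx16]
          show c i * g x * (c (img (E x i)))⁻¹ ∈ H
          rw [hc, crOf_step g par (img (E x i)) (by rw [h4]; exact h.1), h4, h15, mul_inv_cancel]
          exact H.one_mem
      intro i x hi hx hL
      rcases Nat.mod_two_eq_zero_or_one (mrk (E x i)) with he | ho
      · exact fwd i x hi hx he hL
      · have hes := edge_spec hv i x hi hx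
        have h := hes.2
        unfold okMark at h
        rw [show Nat.land (mrk (E x i)) 1 = 1 from (Nat.and_one_is_mod _).trans ho,
          show Nat.beq 1 1 = true from rfl] at h
        simp only [cond_true, force_eq, Bool.and_eq_true] at h
        have h1 := Nat.eq_of_beq_eq_true h.1
        have h2 := Nat.eq_of_beq_eq_true h.2
        have hP := fwd (img (E x i)) x hes.1 hx (by omega) (by
          rw [Nat.shiftRight_eq_div_pow] at hL ⊢
          omega)
        unfold Holds at hP ⊢
        rw [h1] at hP
        have := H.inv_mem hP
        rwa [mul_inv_rev, inv_inv, mul_inv_rev, inv_eq_of_mul_eq_one_right (hinv x hx),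
          ← mul_assoc] at this
  exact fun i x hi hx => main _ i x hi hx rfl

/-- A full certificate identifies the cosets with the points. -/
theorem exists_equiv [NeZero n] (hP : ∀ i x, i < n → x < k → Holds g H E (crOf g par) i x)
    (htree : On (treeOK n k E par) 0 n)
    (φ : G →* Equiv.Perm (Fin n)) (hφ : ∀ x, x < k → ∀ i : Fin n, ((φ (g x))⁻¹ i).val = img (E x i))
    (hgen : Subgroup.closure (g '' {x | x < k}) = ⊤) (hH : ∀ h ∈ H, φ h 0 = 0) :
    ∃ e : G ⧸ H ≃ Fin n, (∀ (y : G) (q : G ⧸ H), e (y • q) = φ y (e q)) ∧
      e ((1 : G) : G ⧸ H) = 0 := by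
  set c := crOf g par
  have claim : ∀ y : G, ∀ i : Fin n, c i * y * (c ((φ y)⁻¹ i : Fin n))⁻¹ ∈ H := by
    intro y
    have hy : y ∈ Subgroup.closure (g '' {x | x < k}) := hgen ▸ Subgroup.mem_top y
    induction hy using Subgroup.closure_induction with
    | mem y hy =>
      obtain ⟨x, hx, rfl⟩ := hy
      intro i
      rw [hφ x hx i]
      exact hP i x i.2 hx
    | one => intro i; simp [H.one_mem]
    | mul y z _ _ h1 h2 =>
      intro i
      have := H.mul_mem (h1 i) (h2 ((φ y)⁻¹ i))
      rw [map_mul, mul_inv_rev, Equiv.Perm.mul_apply]
      simpa [mul_assoc] using this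
    | inv y _ h1 =>
      intro i
      have := H.inv_mem (h1 (φ y i))
      rw [map_inv, inv_inv]
      simpa [mul_assoc] using this
  have hc0 : ∀ i : Nat, ∀ hi : i < n, (φ (c i))⁻¹ (0 : Fin n) = ⟨i, hi⟩ := by
    intro i
    induction i using Nat.strong_induction_on with
    | _ i ih =>
      intro hi
      rcases Nat.eq_zero_or_pos i with rfl | hpos
      · simp only [c, crOf_zero, map_one, inv_one, Equiv.Perm.one_apply]
        rfl
      · have h := htree i (Nat.zero_le _) hi
        unfold treeOK at h
        rw [show (Nat.blt i n && Nat.blt 0 i) = true by simp [hi, hpos]] at h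
        simp only [cond_true, force_eq, Bool.and_eq_true, Nat.blt_eq, Nat.beq_eq] at h
        have hp : par i >>> 4 < i := h.1
        have hcr : c i = c (par i >>> 4) * g (par i &&& 15) := crOf_step g par i hp
        rw [hcr, map_mul, mul_inv_rev, Equiv.Perm.mul_apply, ih _ hp (by omega)]
        exact Fin.ext ((hφ _ h.2.1 _).trans h.2.2)
  let F : G ⧸ H → Fin n := fun q => Quotient.liftOn' q (fun y => φ y 0) fun a b hab => by
    rw [QuotientGroup.leftRel_apply] at hab
    have := hH _ hab
    rw [map_mul, map_inv, Equiv.Perm.mul_apply, Equiv.Perm.inv_eq_iff_eq] at this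
    exact this.symm
  have hsurj : Function.Surjective F := fun i => ⟨(((c i)⁻¹ : G) : G ⧸ H), by
    show φ (c i)⁻¹ 0 = i
    rw [map_inv, hc0 i i.2]⟩
  have hinj : Function.Injective F := by
    have key : ∀ y : G, ((y : G) : G ⧸ H) = (((c (φ y 0 : Fin n))⁻¹ : G) : G ⧸ H) := fun y => by
      rw [QuotientGroup.eq]
      have h := claim y⁻¹ 0
      rw [map_inv, inv_inv] at h
      simpa [c, crOf_zero] using h
    intro q r hqr
    induction q using QuotientGroup.induction_on with
    | H y =>
      induction r using QuotientGroup.induction_on with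
      | H z =>
        rw [key y, key z]
        exact congrArg (fun t : Fin n => (((c t)⁻¹ : G) : G ⧸ H)) hqr
  refine ⟨Equiv.ofBijective F ⟨hinj, hsurj⟩, fun y q => ?_, by show φ 1 0 = 0; simp⟩
  induction q using QuotientGroup.induction_on with
  | H z =>
    show φ (y * z) 0 = φ y (φ z 0)
    rw [map_mul, Equiv.Perm.mul_apply]

end

end CfsgLib.CosetEnum.Wide
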